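import Groth.Agent.Lib.Snapper.Main
import Groth.Agent.Lib.AffStratVan4.Support
import Groth.Agent.Lib.CohFound.DevissageExt
import Groth.Agent.Lib.CurveCoh17.LES
import Groth.Agent.Lib.ModM1.Push
import Mathlib

/-!
# Cohomology of coherent modules which agree off a closed subscheme
-/

set_option autoImplicit false
set_option linter.style.haveILetI false
set_option maxHeartbeats 1000000
set_option backward.isDefEq.respectTransparency false
set_option backward.isDefEq.respectTransparency.types false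

universe u

open CategoryTheory CategoryTheory.Limits AlgebraicGeometry TopologicalSpace Opposite

namespace Groth.Agent.OffClosed5

open Groth.Agent CohFound

variable {X : Scheme.{u}} [IsNoetherian X]

/-- A coherent module supported on a closed subscheme has no cohomology above its cohomological dimension. -/
theorem subsingleton_HH {Z : Scheme.{u}} (ι : Z ⟶ X) [IsClosedImmersion ι] (k : ℕ)
    (hcd : ∀ G : Z.Modules, Coh.IsQCoh G → ∀ i : ℕ, k + 1 ≤ i → Subsingleton (Coh.HH Z G i))
    {M : X.Modules} (hM : Coh.IsCoh M) (hs : CohB1.support M ⊆ Set.range ι) (n : ℕ) (hn : k + 1 ≤ n) :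
    Subsingleton (Coh.HH X M n) := by
  letI : X.Over (Spec (CommRingCat.of Γ(X, ⊤))) := ⟨X.toSpecΓ⟩
  have hz : ∀ N : X.Modules, IsZero N → ∀ m, Subsingleton (Coh.HH X N m) := fun N hN m =>
    subsingleton_of_forall_eq 0 fun x => by
      have h := CurveCoh17.hmap_id Γ(X, ⊤) N m x
      rw [hN.eq_of_src (𝟙 N) 0, CurveCoh17.hmap_zero] at h
      exact h.symm
  by_cases hX : Nonempty X
  swap
  · exact hz _ (Snapper.isZero_of_support_empty (Set.eq_empty_of_forall_notMem fun x => absurd ⟨x⟩ hX)) n
  let P : X.Modules → Prop := fun N =>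
    CohB1.support N ⊆ Set.range ι → ∀ m, k + 1 ≤ m → Subsingleton (Coh.HH X N m)
  refine holds_of_extensions P ?_ ?_ ?_ hM hs n hn
  · rintro N N' ⟨e⟩ hN hs' m hm
    haveI := hN (fun x hx => hs' (fun (h : Subsingleton (N'.presheaf.stalk x)) => hx ?_)) m hm
    · exact (CurveCoh17.hequiv Γ(X, ⊤) e m).symm.toEquiv.subsingleton
    · exact @Equiv.subsingleton _ _ ((M1.stalkAb x).mapIso e).addCommGroupIsoToAddEquiv.toEquiv h
  · intro S hS h1 h2 h3 p1 p3 hs' m hm
    rw [CohGab13.support_mid hS] at hs'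
    haveI := p1 (Set.subset_union_left.trans hs') m hm
    haveI := p3 (Set.subset_union_right.trans hs') m hm
    refine subsingleton_of_forall_eq 0 fun x => ?_
    obtain ⟨y, rfl⟩ := (CurveCoh17.exact_hmap_hmap Γ(X, ⊤) hS m x).1 (Subsingleton.elim _ _)
    rw [Subsingleton.elim y 0, map_zero]
  · intro Z' i hi hZ' I φ hφ hI hs' m hm
    by_cases hη : i (genericPoint Z') ∈ Set.range ι
    · have hr : Set.range i ⊆ Set.range ι := by
        rintro _ ⟨z, rfl⟩
        exact ((genericPoint_specializes z).map i.continuous).mem_closed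
          ι.isClosedEmbedding.isClosed_range hη
      haveI : Surjective (pullback.fst i ι) :=
        ⟨fun z => by
          obtain ⟨w, hw⟩ := hr ⟨z, rfl⟩
          obtain ⟨p, hp, -⟩ := Scheme.Pullback.exists_preimage_pullback (f := i) (g := ι) z w hw.symm
          exact ⟨p, hp⟩⟩
      haveI := isIso_of_isClosedImmersion_of_surjective (pullback.fst i ι)
      let j : Z' ⟶ Z := inv (pullback.fst i ι) ≫ pullback.snd i ι
      have hj : j ≫ ι = i := by
        simp [j, ← pullback.condition]
      haveI : IsClosedImmersion j := by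
        haveI : IsClosedImmersion (j ≫ ι) := hj ▸ hi
        exact IsClosedImmersion.of_comp j ι
      have hI' : Coh.IsQCoh ((Scheme.Modules.pushforward j).obj I) := M1.isQCoh_push j hI
      haveI := AffStratVan4.subsingleton_HH_push ι _ hI' m (hcd _ hI' m hm)
      let e : (Scheme.Modules.pushforward ι).obj ((Scheme.Modules.pushforward j).obj I) ≅
          (Coh.push i).obj I :=
        ((Scheme.Modules.pushforwardComp j ι).app I) ≪≫
          eqToIso (by rw [hj])
      exact (CurveCoh17.hequiv Γ(X, ⊤) e m).symm.toEquiv.subsingleton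
    · refine hz _ ((Scheme.Modules.pushforward i).map_isZero ((IsZero.iff_id_eq_zero I).2 ?_)) m
      haveI : Subsingleton (((Scheme.Modules.pushforward i).obj I).presheaf.stalk (i (genericPoint Z'))) :=
        not_not.1 fun h => hη (hs' h)
      have hg : Subsingleton (I.presheaf.stalk (genericPoint Z')) :=
        @Function.Surjective.subsingleton _ _ _ this (bijective_pushStalk i I (genericPoint Z')).2
      refine Scheme.Modules.hom_ext _ _ fun U => ?_
      ext s
      rcases isEmpty_or_nonempty (U : Set Z') with hU | hU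
      · exact M1.section_ext _ _ fun x hx => (hU.false ⟨x, hx⟩).elim
      obtain ⟨z, hz'⟩ := hU
      have hgU : genericPoint Z' ∈ U := (genericPoint_specializes z).mem_open U.2 hz'
      apply (M1.mono_iff_app φ).1 hφ U
      have h0 : (Coh.structureModule Z').presheaf.germ U (genericPoint Z') hgU (φ.app U s) = 0 := by
        erw [← TopCat.Presheaf.stalkFunctor_map_germ_apply U (genericPoint Z') hgU
          ((Scheme.Modules.toPresheaf Z').map φ) s]
        exact (congrArg _ (@Subsingleton.elim _ hg _ 0)).trans (map_zero _)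
      obtain ⟨W, hgW, iU, iU', hW⟩ := TopCat.Presheaf.germ_eq (Coh.structureModule Z').presheaf _ hgU hgU
        (φ.app U s) 0 (h0.trans (map_zero _).symm)
      have h1 : φ.app U s = (0 : Γ(Z', U)) :=
        germ_injective_of_isIntegral Z' (genericPoint Z') hgU (by
          rw [← Z'.presheaf.germ_res_apply iU _ hgW, ← Z'.presheaf.germ_res_apply iU' _ hgW (0 : Γ(Z', U))]
          exact congrArg _ hW)
      simpa using h1

/-- Coherent modules isomorphic off a closed subscheme have isomorphic cohomology in high degrees. -/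
theorem nonempty_HH_addEquiv {Z : Scheme.{u}} (ι : Z ⟶ X) [IsClosedImmersion ι] (k : ℕ)
    (hcd : ∀ G : Z.Modules, Coh.IsQCoh G → ∀ i : ℕ, k + 1 ≤ i → Subsingleton (Coh.HH Z G i))
    (U : X.Opens) (hU : (U : Set X) = (Set.range ι.base)ᶜ) {F F' : X.Modules} (hF : Coh.IsCoh F)
    (hF' : Coh.IsCoh F') (e : F'.restrict U.ι ≅ F.restrict U.ι) (n : ℕ) (hn : k + 2 ≤ n) :
    Nonempty (Coh.HH X F n ≃+ Coh.HH X F' n) := by
  letI : X.Over (Spec (CommRingCat.of Γ(X, ⊤))) := ⟨X.toSpecΓ⟩
  let P := (Scheme.Modules.pushforward U.ι).obj (F.restrict U.ι)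
  have hP : Coh.IsQCoh P := M1.isQCoh_push U.ι (M1.isQCoh_restrict hF.1 U.ι)
  let a : F ⟶ P := (Scheme.Modules.restrictAdjunction U.ι).unit.app F
  let b : F' ⟶ P := (Scheme.Modules.restrictAdjunction U.ι).unit.app _ ≫
    (Scheme.Modules.pushforward U.ι).map e.hom
  have ha : IsIso ((Scheme.Modules.restrictFunctor U.ι).map a) := M1.isIso_restrict_unit U.ι F
  have hb : IsIso ((Scheme.Modules.restrictFunctor U.ι).map b) := by
    haveI := M1.isIso_restrict_unit U.ι F'
    simp only [b, Functor.map_comp]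
    infer_instance
  have hfst := (Twist.isIso_restrict_map_iff _ U).1 (M1.isIso_restrict_fst a b U.ι hb)
  have hsnd := (Twist.isIso_restrict_map_iff _ U).1 (M1.isIso_restrict_snd a b U.ι ha)
  have hW : Coh.IsCoh (pullback a b) := M1.isCoh_fibreProd hF hF' hP a b
  have key : ∀ {N : X.Modules} (φ : pullback a b ⟶ N), Coh.IsCoh N →
      (∀ V : X.Opens, V ≤ U → Function.Bijective (φ.app V)) →
      Nonempty (Coh.HH X (pullback a b) n ≃+ Coh.HH X N n) := by
    intro N φ hN hφ
    obtain ⟨m, rfl⟩ : ∃ m, n = m + 1 := ⟨n - 1, by omega⟩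
    have hK : Coh.IsCoh (kernel φ) := CurveCoh17.isCoh_kernel hW hN.1 φ
    have hC : Coh.IsCoh (cokernel φ) := M1.isCoh_cokernel hW.1 hN φ
    have hoff : ∀ x : X, x ∉ Set.range ι.base → x ∈ U := fun x hx => by
      rw [← SetLike.mem_coe, hU]; exact hx
    have vK : ∀ j, k + 1 ≤ j → Subsingleton (Coh.HH X (kernel φ) j) :=
      subsingleton_HH ι k hcd hK fun x hx => by
        by_contra hc
        have hxU := hoff x hc
        exact hx ⟨fun s t => (CurveCoh17.eq_zero_stalk_kernel φ x
          (CurveCoh17.bijective_stalkMap_of_app φ U hφ hxU).1 s).trans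
          (CurveCoh17.eq_zero_stalk_kernel φ x (CurveCoh17.bijective_stalkMap_of_app φ U hφ hxU).1 t).symm⟩
    have vC : ∀ j, k + 1 ≤ j → Subsingleton (Coh.HH X (cokernel φ) j) :=
      subsingleton_HH ι k hcd hC fun x hx => by
        by_contra hc
        have hxU := hoff x hc
        exact hx ⟨fun s t => (CurveCoh17.eq_zero_stalk_cokernel φ x
          (CurveCoh17.bijective_stalkMap_of_app φ U hφ hxU).2 s).trans
          (CurveCoh17.eq_zero_stalk_cokernel φ x (CurveCoh17.bijective_stalkMap_of_app φ U hφ hxU).2 t).symm⟩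
    have e1 := CurveCoh17.kerSC_shortExact φ
    have e2 := CurveCoh17.cokerSC_shortExact φ
    have hg1 : Function.Bijective (CurveCoh17.hmap Γ(X, ⊤) (CurveCoh17.kerSC φ).g (m + 1)) := by
      refine ⟨(injective_iff_map_eq_zero _).2 fun x hx => ?_, fun x => ?_⟩
      · obtain ⟨y, rfl⟩ := (CurveCoh17.exact_hmap_hmap Γ(X, ⊤) e1 (m + 1) x).1 hx
        rw [@Subsingleton.elim _ (vK (m + 1) (by omega)) y 0, map_zero]
      · exact (CurveCoh17.exact_hmap_hdelta Γ(X, ⊤) e1 (m + 1) x).1
          (@Subsingleton.elim _ (vK (m + 2) (by omega)) _ _)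
    have hf2 : Function.Bijective (CurveCoh17.hmap Γ(X, ⊤) (CurveCoh17.cokerSC φ).f (m + 1)) := by
      refine ⟨(injective_iff_map_eq_zero _).2 fun x hx => ?_, fun x => ?_⟩
      · obtain ⟨y, rfl⟩ := (CurveCoh17.exact_hdelta_hmap Γ(X, ⊤) e2 m x).1 hx
        rw [@Subsingleton.elim _ (vC m (by omega)) y 0, map_zero]
      · exact (CurveCoh17.exact_hmap_hmap Γ(X, ⊤) e2 (m + 1) x).1
          (@Subsingleton.elim _ (vC (m + 1) (by omega)) _ _)
    exact ⟨(AddEquiv.ofBijective (CurveCoh17.hmap₀ (CurveCoh17.kerSC φ).g (m + 1)) hg1).trans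
      (AddEquiv.ofBijective (CurveCoh17.hmap₀ (CurveCoh17.cokerSC φ).f (m + 1)) hf2)⟩
  obtain ⟨e₁⟩ := key (pullback.fst a b) hF hfst
  obtain ⟨e₂⟩ := key (pullback.snd a b) hF' hsnd
  exact ⟨e₁.symm.trans e₂⟩

end Groth.Agent.OffClosed5
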